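import Mathlib
import Groth.Agent.WLocalLib.FiniteContr

/-!
Tame Kummer extensions of the fraction field of a strictly henselian discrete valuation ring.
-/

open Polynomial IsLocalRing
open scoped IntermediateField

namespace Groth.Agent.TameKummerLib

universe u

variable (O : Type u) [CommRing O] [IsDomain O] [IsDiscreteValuationRing O] [HenselianLocalRing O]
  [IsAlgClosed (ResidueField O)]

theorem exists_pow_eq {e : ℕ} (he : (e : ResidueField O) ≠ 0) (u : Oˣ) : ∃ w : Oˣ, w ^ e = u := by
  have he0 : e ≠ 0 := fun h => he (by simp [h])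
  obtain ⟨c, hc⟩ := IsAlgClosed.exists_pow_nat_eq (residue O (u : O)) (Nat.pos_of_ne_zero he0)
  obtain ⟨c, rfl⟩ := residue_surjective c
  have hc0 : IsUnit c := by
    rw [← residue_ne_zero_iff_isUnit]
    intro h
    rw [h, zero_pow he0] at hc
    exact (residue_ne_zero_iff_isUnit _).mpr u.isUnit hc.symm
  obtain ⟨a, ha, -⟩ := HenselianLocalRing.is_henselian (X ^ e - C (u : O)) (monic_X_pow_sub_C _ he0) c
    (by rw [← residue_eq_zero_iff]; simp [hc])
    (by
      simp only [derivative_sub, derivative_X_pow, derivative_C, sub_zero, eval_mul, eval_C, eval_pow,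
        eval_X]
      refine IsUnit.mul ?_ (hc0.pow _)
      rwa [← residue_ne_zero_iff_isUnit, map_natCast])
  simp only [IsRoot.def, eval_sub, eval_pow, eval_X, eval_C, sub_eq_zero] at ha
  have : IsUnit a := by
    rw [← isUnit_pow_iff he0, ha]; exact u.isUnit
  exact ⟨this.unit, Units.ext (by simpa using ha)⟩

variable (K : Type u) [Field K] [Algebra O K] [IsFractionRing O K]

theorem exists_primitiveRoot {e : ℕ} (he : (e : ResidueField O) ≠ 0) :
    (primitiveRoots e K).Nonempty := by
  have he0 : e ≠ 0 := fun h => he (by simp [h])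
  haveI : NeZero (e : ResidueField O) := ⟨he⟩
  obtain ⟨ζ₀, hζ₀⟩ := HasEnoughRootsOfUnity.exists_primitiveRoot (ResidueField O) e
  obtain ⟨c, rfl⟩ := residue_surjective ζ₀
  have hc0 : IsUnit c := (residue_ne_zero_iff_isUnit c).mp (hζ₀.ne_zero he0)
  obtain ⟨a, ha, hac⟩ := HenselianLocalRing.is_henselian (X ^ e - C (1 : O)) (monic_X_pow_sub_C _ he0) c
    (by rw [← residue_eq_zero_iff]; simp [hζ₀.pow_eq_one])
    (by
      simp only [derivative_sub, derivative_X_pow, derivative_C, sub_zero, eval_mul, eval_C, eval_pow,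
        eval_X]
      refine IsUnit.mul ?_ (hc0.pow _)
      rwa [← residue_ne_zero_iff_isUnit, map_natCast])
  simp only [IsRoot.def, eval_sub, eval_pow, eval_X, eval_C, sub_eq_zero] at ha
  have hres : residue O a = residue O c := by rwa [← sub_eq_zero, ← map_sub, residue_eq_zero_iff]
  refine ⟨algebraMap O K a, (mem_primitiveRoots (Nat.pos_of_ne_zero he0)).mpr ?_⟩
  refine IsPrimitiveRoot.map_of_injective ⟨ha, fun l hl => hζ₀.dvd_of_pow_eq_one l ?_⟩
    (IsFractionRing.injective O K)
  rw [← hres, ← map_pow, hl, map_one]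

omit [HenselianLocalRing O] [IsAlgClosed (ResidueField O)] in
theorem irreducible_X_pow_sub_uniformizer {ϖ : O} (hϖ : Irreducible ϖ) {e : ℕ} (he : e ≠ 0) :
    Irreducible (X ^ e - C (algebraMap O K ϖ) : K[X]) := by
  have hmon : (X ^ e - C ϖ : O[X]).Monic := monic_X_pow_sub_C _ he
  have h : (X ^ e - C ϖ : O[X]).IsEisensteinAt (maximalIdeal O) := by
    refine hmon.isEisensteinAt_of_mem_of_notMem Ideal.IsPrime.ne_top' (fun {i} hi => ?_) ?_
    · rw [natDegree_X_pow_sub_C] at hi
      rw [coeff_sub, coeff_X_pow, if_neg hi.ne, zero_sub, neg_mem_iff, coeff_C]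
      split_ifs
      · exact (hϖ.not_isUnit : ϖ ∈ nonunits O)
      · exact zero_mem _
    · rw [coeff_sub, coeff_X_pow, if_neg he.symm, zero_sub, neg_mem_iff, coeff_C_zero,
        hϖ.maximalIdeal_eq, Ideal.span_singleton_pow, Ideal.mem_span_singleton]
      rintro ⟨t, ht⟩
      refine hϖ.not_isUnit (IsUnit.of_mul_eq_one t ?_)
      have : ϖ * (ϖ * t - 1) = 0 := by linear_combination -ht
      exact sub_eq_zero.mp ((mul_eq_zero.mp this).resolve_left hϖ.ne_zero)
  have := h.irreducible (IsLocalRing.maximalIdeal.isMaximal O).isPrime hmon.isPrimitive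
    (by rw [natDegree_X_pow_sub_C]; omega)
  simpa using (hmon.irreducible_iff_irreducible_map_fraction_map (K := K)).mp this

/-- In a tame totally ramified extension, an `e`-th root of the uniformizer generates. -/
theorem exists_pow_eq_uniformizer (f : O[X]) (hmon : f.Monic) (hf : f.IsEisensteinAt (maximalIdeal O))
    (he : (f.natDegree : ResidueField O) ≠ 0) {ϖ : O} (hϖ : Irreducible ϖ)
    {L : Type u} [CommRing L] [Algebra O L] (α : L) (hα : aeval α f = 0) :
    ∃ β ∈ Algebra.adjoin O {α}, β ^ f.natDegree = algebraMap O L ϖ := by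
  set e := f.natDegree with hedef
  have he0 : e ≠ 0 := fun h => he (by simp [h])
  let B := AdjoinRoot f
  let r : B := AdjoinRoot.root f
  haveI : Module.Finite O B := hmon.finite_adjoinRoot
  -- coefficients are multiples of the uniformizer
  have hco : ∀ i, i < e → ∃ a, f.coeff i = ϖ * a := fun i hi => by
    have := hf.mem hi
    rw [hϖ.maximalIdeal_eq, Ideal.mem_span_singleton] at this
    exact this
  choose a ha using fun i : Fin e => hco i i.2
  let w : B := -∑ i : Fin e, algebraMap O B (a i) * r ^ (i : ℕ)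
  have hrw : r ^ e = algebraMap O B ϖ * w := by
    have h0 : aeval r f = 0 := by rw [AdjoinRoot.aeval_eq, AdjoinRoot.mk_self]
    rw [aeval_eq_sum_range, Finset.sum_range_succ, ← hedef, hmon.coeff_natDegree, one_smul] at h0
    rw [eq_neg_of_add_eq_zero_right h0]
    refine (congrArg Neg.neg ?_).trans (mul_neg _ _).symm
    refine Eq.trans ?_ (Finset.mul_sum _ _ _).symm
    rw [Finset.sum_range]
    refine Finset.sum_congr rfl fun i _ => ?_
    rw [Algebra.smul_def, ha i, map_mul, mul_assoc]
  -- `B` is local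
  haveI : Nontrivial B := AdjoinRoot.nontrivial f (by
    rw [degree_eq_natDegree hmon.ne_zero]; exact_mod_cast he0)
  have hmax : ∀ P : Ideal B, P.IsMaximal → algebraMap O B ϖ ∈ P ∧ r ∈ P := by
    intro P hP
    have h1 : P.comap (algebraMap O B) = maximalIdeal O :=
      eq_maximalIdeal (Ideal.isMaximal_comap_of_isIntegral_of_isMaximal (R := O) P)
    have h2 : algebraMap O B ϖ ∈ P := Ideal.mem_comap.mp
      (h1 ▸ (hϖ.not_isUnit : ϖ ∈ maximalIdeal O))
    exact ⟨h2, hP.isPrime.mem_of_pow_mem e (hrw ▸ Ideal.mul_mem_right _ _ h2)⟩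
  have hcong : ∀ (P : Ideal B), P.IsMaximal → ∀ (g : O[X]),
      AdjoinRoot.mk f g - algebraMap O B (g.coeff 0) ∈ P := by
    intro P hP g
    have h := congrArg (aeval r) (g.X_mul_divX_add)
    simp only [map_add, map_mul, aeval_X, aeval_C] at h
    rw [← AdjoinRoot.aeval_eq, ← h, add_sub_cancel_right]
    exact Ideal.mul_mem_right _ _ (hmax P hP).2
  haveI : IsLocalRing B := by
    refine IsLocalRing.of_unique_max_ideal ?_
    obtain ⟨P, hP⟩ := Ideal.exists_maximal B
    refine ⟨P, hP, fun Q hQ => hQ.eq_of_le hP.ne_top fun x hx => ?_⟩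
    obtain ⟨g, rfl⟩ := AdjoinRoot.mk_surjective x
    have hg : algebraMap O B (g.coeff 0) ∈ Q := by
      simpa using sub_mem hx (hcong Q hQ g)
    have hg0 : g.coeff 0 ∈ maximalIdeal O := by
      rw [← eq_maximalIdeal (Ideal.isMaximal_comap_of_isIntegral_of_isMaximal (R := O) Q)]
      exact hg
    rw [← eq_maximalIdeal (Ideal.isMaximal_comap_of_isIntegral_of_isMaximal (R := O) P)] at hg0
    simpa using add_mem (hcong P hP g) (Ideal.mem_comap.mp hg0)
  haveI : HenselianLocalRing B := Groth.Agent.WLocalLib.henselianLocalRing_of_finite O B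
  -- an `e`-th root of `w`
  have ha0 : IsUnit (-a ⟨0, Nat.pos_of_ne_zero he0⟩) := by
    rw [IsUnit.neg_iff]
    by_contra h
    refine hf.notMem ?_
    rw [ha ⟨0, Nat.pos_of_ne_zero he0⟩, pow_two, hϖ.maximalIdeal_eq]
    exact Ideal.mul_mem_mul (Ideal.mem_span_singleton_self _)
      (by rw [← hϖ.maximalIdeal_eq]; exact h)
  obtain ⟨c, hc⟩ := exists_pow_eq O he ha0.unit
  have hwc : w - algebraMap O B (-a ⟨0, Nat.pos_of_ne_zero he0⟩) ∈ maximalIdeal B := by
    have h := (hmax _ (IsLocalRing.maximalIdeal.isMaximal B)).2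
    simp only [w, map_neg, neg_sub_neg]
    rw [← Finset.add_sum_erase _ _ (Finset.mem_univ (⟨0, Nat.pos_of_ne_zero he0⟩ : Fin e))]
    simp only [pow_zero, mul_one, sub_add_cancel_left]
    exact neg_mem (sum_mem fun i hi => Ideal.mul_mem_left _ _ (Ideal.pow_mem_of_mem _ h _
      (Nat.pos_of_ne_zero fun h0 => (Finset.mem_erase.mp hi).1 (Fin.ext h0))))
  obtain ⟨γ, hγ, -⟩ := HenselianLocalRing.is_henselian (X ^ e - C w) (monic_X_pow_sub_C _ he0)
    (algebraMap O B c)
    (by
      have hcc : (c : O) ^ e = -a ⟨0, Nat.pos_of_ne_zero he0⟩ := by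
        have := congrArg (fun x : Oˣ => (x : O)) hc
        simpa using this
      simp only [eval_sub, eval_pow, eval_X, eval_C, ← map_pow, hcc]
      rw [← neg_sub]
      exact neg_mem hwc)
    (by
      simp only [derivative_sub, derivative_X_pow, derivative_C, sub_zero, eval_mul, eval_C, eval_pow,
        eval_X]
      refine IsUnit.mul ?_ ((c.isUnit.map _).pow _)
      rw [← map_natCast (algebraMap O B)]
      exact ((residue_ne_zero_iff_isUnit (e : O)).mp (by rwa [map_natCast])).map _)
  simp only [IsRoot.def, eval_sub, eval_pow, eval_X, eval_C, sub_eq_zero] at hγ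
  have hwu : IsUnit w := by
    refine IsLocalRing.notMem_maximalIdeal.mp fun h => IsLocalRing.notMem_maximalIdeal.mpr
      (ha0.map (algebraMap O B)) ?_
    have h2 := sub_mem h hwc
    rwa [sub_sub_cancel] at h2
  obtain ⟨δ, hδ⟩ : ∃ δ, γ * δ = 1 := ((isUnit_pow_iff he0).mp (hγ ▸ hwu)).exists_right_inv
  have hβ : (r * δ) ^ e = algebraMap O B ϖ := by
    rw [mul_pow, hrw, ← hγ, mul_assoc, ← mul_pow, hδ, one_pow, mul_one]
  let φ : B →ₐ[O] L := AdjoinRoot.liftAlgHom f (Algebra.ofId O L) α hα
  refine ⟨φ (r * δ), ?_, by rw [← map_pow, hβ, φ.commutes]⟩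
  obtain ⟨g, hg⟩ := AdjoinRoot.mk_surjective (r * δ)
  rw [← hg, AdjoinRoot.liftAlgHom_mk]
  exact aeval_mem_adjoin_singleton O α

end Groth.Agent.TameKummerLib
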